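import Groth.Agent.LengthDetLib.Global
import Mathlib.RingTheory.OrderOfVanishing.Noetherian
import Mathlib.LinearAlgebra.Matrix.ToLinearEquiv
import Mathlib.LinearAlgebra.Quotient.Pi

/-!
Length of the cokernel of a direct sum of semilinear maps of free modules over a DVR.
-/

set_option autoImplicit false
universe u v

namespace SemilinCokerLib

variable {B : Type u} [CommRing B] [IsDomain B] [IsDiscreteValuationRing B]

lemma length_coker (r : ℕ) (G : Matrix (Fin r) (Fin r) B) :
    Module.length B ((Fin r → B) ⧸ LinearMap.range G.mulVecLin) =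
      IsDiscreteValuationRing.addVal B G.det := by
  by_cases h : G.det = 0
  · rw [h, AddValuation.map_zero]
    obtain ⟨v, hv, hvG⟩ := Matrix.exists_vecMul_eq_zero_iff.mpr h
    obtain ⟨j, hj⟩ := Function.ne_iff.mp hv
    let f : (Fin r → B) →ₗ[B] B := dotProductBilin B B v
    have hle : LinearMap.range G.mulVecLin ≤ LinearMap.ker f := by
      rintro _ ⟨x, rfl⟩
      simp [f, Matrix.dotProduct_mulVec, hvG]
    let fb := (LinearMap.range G.mulVecLin).liftQ f hle
    let g : B →ₗ[B] ((Fin r → B) ⧸ LinearMap.range G.mulVecLin) :=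
      LinearMap.toSpanSingleton B _ (Submodule.Quotient.mk (Pi.single j 1))
    have hg : Function.Injective g := by
      rw [← LinearMap.ker_eq_bot, eq_bot_iff]
      intro c hc
      have : fb (g c) = 0 := by rw [LinearMap.mem_ker.mp hc, map_zero]
      simp only [g, fb, LinearMap.toSpanSingleton_apply, map_smul, Submodule.liftQ_apply, f,
        dotProductBilin, LinearMap.mk₂_apply, dotProduct_single, mul_one, smul_eq_mul] at this
      have hd : dotProductBilin B B v (Pi.single j 1) = v j := by
        show v ⬝ᵥ Pi.single j 1 = v j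
        rw [dotProduct_single, mul_one]
      rcases mul_eq_zero.mp this with h0 | h0
      · exact h0
      · exact absurd (hd ▸ h0 : v j = 0) hj
    have h1 := Module.length_le_of_injective g hg
    have h2 : Module.length B B = ⊤ := by
      rw [← Ring.ord_zero, Ring.ord_eq_addVal, AddValuation.map_zero]
    exact top_le_iff.mp (h2 ▸ h1)
  · rw [← Ring.ord_eq_addVal, ← LengthDetLib.cl_eq_ord' G (mem_nonZeroDivisors_of_ne_zero h)]

theorem main (ω : B ≃+* B) {n : ℕ} (r : Fin n → ℕ)
    (M N : Fin n → Type v) [∀ i, AddCommGroup (M i)] [∀ i, Module B (M i)]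
    [∀ i, AddCommGroup (N i)] [∀ i, Module B (N i)]
    (bM : ∀ i, Module.Basis (Fin (r i)) B (M i)) (bN : ∀ i, Module.Basis (Fin (r i)) B (N i))
    (χ : ∀ i, M i →+ N i) (hχ : ∀ i (b : B) (x : M i), χ i (b • x) = ω b • χ i x) :
    Module.length B ((∀ i, N i) ⧸ Submodule.span B (Set.range (fun (x : ∀ i, M i) (i : Fin n) => χ i (x i)))) =
      IsDiscreteValuationRing.addVal B (∏ i, Matrix.det
        (Matrix.of fun (a c : Fin (r i)) => (bN i).repr (χ i (bM i c)) a)) := by
  classical
  let G := fun i => Matrix.of fun (a c : Fin (r i)) => (bN i).repr (χ i (bM i c)) a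
  let P := fun i => Submodule.span B (Set.range (χ i))
  have hP : ∀ i, P i = Submodule.span B (Set.range fun c => χ i (bM i c)) := by
    intro i
    refine le_antisymm (Submodule.span_le.mpr ?_) (Submodule.span_mono ?_)
    · rintro _ ⟨x, rfl⟩
      rw [← (bM i).sum_repr x, map_sum]
      refine Submodule.sum_mem _ fun c _ => ?_
      rw [hχ]
      exact Submodule.smul_mem _ _ (Submodule.subset_span ⟨c, rfl⟩)
    · rintro _ ⟨c, rfl⟩
      exact ⟨_, rfl⟩
  have hPimg : ∀ i, (P i).map ((bN i).equivFun : N i →ₗ[B] Fin (r i) → B) =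
      LinearMap.range (G i).mulVecLin := by
    intro i
    rw [hP, Submodule.map_span, ← Set.range_comp, Matrix.range_mulVecLin]
    congr 1
  have hpi : Submodule.span B (Set.range (fun (x : ∀ i, M i) (i : Fin n) => χ i (x i))) =
      Submodule.pi Set.univ P := by
    refine le_antisymm (Submodule.span_le.mpr ?_) ?_
    · rintro _ ⟨x, rfl⟩ i -
      exact Submodule.subset_span ⟨x i, rfl⟩
    · intro y hy
      rw [← Finset.univ_sum_single y]
      refine Submodule.sum_mem _ fun i _ => ?_
      have : (P i).map (LinearMap.single B N i) ≤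
          Submodule.span B (Set.range (fun (x : ∀ i, M i) (i : Fin n) => χ i (x i))) := by
        rw [Submodule.map_span, ← Set.range_comp]
        refine Submodule.span_mono ?_
        rintro _ ⟨x, rfl⟩
        refine ⟨Pi.single i x, ?_⟩
        funext k
        rcases eq_or_ne k i with rfl | hk
        · simp
        · simp [Pi.single_eq_of_ne hk]
      exact this ⟨y i, hy i trivial, rfl⟩
  rw [hpi, (Submodule.quotientPi P).length_eq, Module.length_pi_of_fintype]
  have key : ∀ i, Module.length B (N i ⧸ P i) = IsDiscreteValuationRing.addVal B (G i).det := by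
    intro i
    rw [← length_coker]
    exact (Submodule.Quotient.equiv (P i) _ (bN i).equivFun (hPimg i)).length_eq
  simp only [key]
  show _ = IsDiscreteValuationRing.addVal B (∏ i, (G i).det)
  induction (Finset.univ : Finset (Fin n)) using Finset.induction_on with
  | empty => simp
  | insert a s ha ih => rw [Finset.sum_insert ha, Finset.prod_insert ha, AddValuation.map_mul, ih]

end SemilinCokerLib
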